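import Groth.Prelude.Def_W4c6eohyperellchar2Gc
import Mathlib

/-! The nilpotent block. -/

namespace Groth.Agent.EONil

open W4c6eohyperellchar2

universe u

variable {c : ℕ} {k : Type u} [Field k]

theorem X_eq (l : Fin c) : X c k ((l : ℕ) + 1) = (Pi.single l 1, 0) := by
  refine Prod.ext (funext fun i => ?_) rfl
  simp [X, Pi.single_apply, Fin.ext_iff]

theorem Y_eq (l : Fin c) : Y c k ((l : ℕ) + 1) = (0, Pi.single l 1) := by
  refine Prod.ext rfl (funext fun i => ?_)
  simp [Y, Pi.single_apply, Fin.ext_iff]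

theorem mem_Nfil {i : ℕ} {v : GcMod c k} :
    v ∈ Nfil c k i ↔ (∀ l : Fin c, (l : ℕ) + 1 ≤ 2 * c - i → v.1 l = 0) ∧
      (∀ l : Fin c, i ≤ (l : ℕ) → v.2 l = 0) := by
  constructor
  · intro hv
    induction hv using Submodule.span_induction with
    | mem x hx =>
      rcases hx with ⟨n, ⟨h1, h2⟩, rfl⟩ | ⟨n, ⟨h1, h2⟩, rfl⟩
      · exact ⟨fun l _ => rfl, fun l hl => by simp [Y]; omega⟩
      · exact ⟨fun l hl => by simp [X]; omega, fun l _ => rfl⟩
    | zero => simp
    | add x y _ _ hx hy =>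
      exact ⟨fun l hl => by simp [hx.1 l hl, hy.1 l hl], fun l hl => by simp [hx.2 l hl, hy.2 l hl]⟩
    | smul t x _ hx =>
      exact ⟨fun l hl => by simp [hx.1 l hl], fun l hl => by simp [hx.2 l hl]⟩
  · rintro ⟨h1, h2⟩
    have hv : v = ∑ l, v.1 l • X c k ((l : ℕ) + 1) + ∑ l, v.2 l • Y c k ((l : ℕ) + 1) := by
      refine Prod.ext (funext fun j => ?_) (funext fun j => ?_) <;>
        simp [X_eq, Y_eq, Prod.fst_sum, Prod.snd_sum, Pi.single_apply]
    rw [hv]
    refine add_mem (Submodule.sum_mem _ fun l _ => ?_) (Submodule.sum_mem _ fun l _ => ?_)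
    · by_cases h : (l : ℕ) + 1 ≤ 2 * c - i
      · rw [h1 l h, zero_smul]; exact zero_mem _
      · exact Submodule.smul_mem _ _ (Submodule.subset_span (Or.inr ⟨_, ⟨by omega, by omega⟩, rfl⟩))
    · by_cases h : i ≤ (l : ℕ)
      · rw [h2 l h, zero_smul]; exact zero_mem _
      · exact Submodule.smul_mem _ _ (Submodule.subset_span (Or.inl ⟨_, ⟨by omega, by omega⟩, rfl⟩))

theorem finrank_Nfil {i : ℕ} (hi : i ≤ 2 * c) : Module.finrank k (Nfil c k i) = i := by
  classical
  let P : GcMod c k →ₗ[k] ({l : Fin c // ¬ (l : ℕ) + 1 ≤ 2 * c - i} → k) × ({l : Fin c // ¬ i ≤ (l : ℕ)} → k) :=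
    (LinearMap.funLeft k k Subtype.val).prodMap (LinearMap.funLeft k k Subtype.val)
  have hbij : Function.Bijective (P ∘ₗ (Nfil c k i).subtype) := by
    refine ⟨?_, fun w => ?_⟩
    · rintro ⟨v, hv⟩ ⟨w, hw⟩ h
      rw [mem_Nfil] at hv hw
      refine Subtype.ext (Prod.ext (funext fun l => ?_) (funext fun l => ?_))
      · by_cases hl : (l : ℕ) + 1 ≤ 2 * c - i
        · show v.1 l = w.1 l; rw [hv.1 l hl, hw.1 l hl]
        · exact congrFun (congrArg Prod.fst h) ⟨l, hl⟩
      · by_cases hl : i ≤ (l : ℕ)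
        · show v.2 l = w.2 l; rw [hv.2 l hl, hw.2 l hl]
        · exact congrFun (congrArg Prod.snd h) ⟨l, hl⟩
    · refine ⟨⟨(fun l => if h : (l : ℕ) + 1 ≤ 2 * c - i then 0 else w.1 ⟨l, h⟩,
        fun l => if h : i ≤ (l : ℕ) then 0 else w.2 ⟨l, h⟩), mem_Nfil.2 ⟨fun l hl => dif_pos hl, fun l hl => dif_pos hl⟩⟩, ?_⟩
      exact Prod.ext (funext fun l => dif_neg l.2) (funext fun l => dif_neg l.2)
  rw [(LinearEquiv.ofBijective _ hbij).finrank_eq, Module.finrank_prod, Module.finrank_fintype_fun_eq_card,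
    Module.finrank_fintype_fun_eq_card]
  have h1 : Fintype.card {l : Fin c // ¬ (l : ℕ) + 1 ≤ 2 * c - i} = c - (2 * c - i) := by
    rw [← Fintype.card_fin (c - (2 * c - i))]
    refine Fintype.card_congr ⟨fun l => ⟨l.1 - (2 * c - i), by omega⟩,
      fun l => ⟨⟨l + (2 * c - i), by omega⟩, by simp⟩, fun l => by ext; simp; omega, fun l => by ext; simp⟩
  have h2 : Fintype.card {l : Fin c // ¬ i ≤ (l : ℕ)} = min i c := by
    rw [← Fintype.card_fin (min i c)]
    exact Fintype.card_congr ⟨fun l => ⟨l.1, by omega⟩, fun l => ⟨⟨l, by omega⟩, by simp; omega⟩,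
      fun l => rfl, fun l => rfl⟩
  omega

variable [CharP k 2] [PerfectRing k 2]

/-- The square of `NV`. -/
def lin (c : ℕ) (a : ℕ → k) : GcMod c k →ₗ[k] (Fin c → k) where
  toFun v j := coefY v (2 * (j.val + 1)) +
    ∑ l : Fin c, if (l.val + 1) % 2 = 1 ∧ (j.val + 1) + l.val / 2 ≤ c then v.1 l * a ((j.val + 1) + l.val / 2) else 0
  map_add' v w := by
    funext j
    simp only [coefY, Prod.fst_add, Prod.snd_add, Pi.add_apply, add_mul]
    rw [add_add_add_comm, ← Finset.sum_add_distrib]
    congr 1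
    · split_ifs <;> simp
    · exact Finset.sum_congr rfl fun l _ => by split_ifs <;> simp
  map_smul' t v := by
    funext j
    simp only [coefY, Prod.smul_fst, Prod.smul_snd, Pi.smul_apply, smul_eq_mul, RingHom.id_apply, mul_add,
      Finset.mul_sum]
    congr 1
    · split_ifs <;> simp
    · exact Finset.sum_congr rfl fun l _ => by split_ifs <;> simp [mul_assoc]

theorem NV_eq (a : ℕ → k) (v : GcMod c k) :
    NV c k a v = (0, fun j => (frobeniusEquiv k 2).symm (lin c a v j)) := by
  refine Prod.ext rfl (funext fun j => ?_)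
  simp only [NV, lin, LinearMap.coe_mk, AddHom.coe_mk, map_add, map_sum]
  congr 1
  exact Finset.sum_congr rfl fun l _ => by split_ifs <;> simp

theorem single_mem_image {a : ℕ → k} (ha : a c ≠ 0) {i : ℕ} (hi : i ≤ 2 * c) :
    ∀ j : ℕ, (hj : j < c) → j < i / 2 → Pi.single ⟨j, hj⟩ 1 ∈ (Nfil c k i).map (lin c a) := by
  intro j
  induction j using Nat.strong_induction_on with
  | _ j ih =>
    intro hj hji
    by_cases h2 : 2 * (j + 1) ≤ c
    · refine ⟨Y c k (2 * (j + 1)), Submodule.subset_span (Or.inl ⟨_, ⟨by omega, by omega⟩, rfl⟩), ?_⟩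
      funext r
      simp only [lin, LinearMap.coe_mk, AddHom.coe_mk, coefY, Y, Pi.zero_apply, zero_mul, ite_self,
        Finset.sum_const_zero, add_zero, Pi.single_apply, Fin.ext_iff]
      split_ifs <;> first | rfl | omega
    · set M := (Nfil c k i).map (lin c a)
      have hl : 2 * (c - (j + 1)) < c := by omega
      have hX : lin c a (X c k (2 * (c - (j + 1)) + 1)) ∈ M :=
        ⟨_, Submodule.subset_span (Or.inr ⟨_, ⟨by omega, by omega⟩, rfl⟩), rfl⟩
      have hdecomp : lin c a (X c k (2 * (c - (j + 1)) + 1)) =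
          ∑ r : Fin c, (if (r : ℕ) ≤ j then a ((r : ℕ) + 1 + (c - (j + 1))) else 0) • Pi.single r (1 : k) := by
        rw [← show (fun r : Fin c => (if (r : ℕ) ≤ j then a ((r : ℕ) + 1 + (c - (j + 1))) else 0)) =
          ∑ r : Fin c, (if (r : ℕ) ≤ j then a ((r : ℕ) + 1 + (c - (j + 1))) else 0) • Pi.single r (1 : k) by
            funext q
            rw [Finset.sum_apply, Finset.sum_eq_single q] <;> simp +contextual [Pi.single_apply, eq_comm]]
        funext r
        rw [show X c k (2 * (c - (j + 1)) + 1) = (Pi.single (⟨2 * (c - (j + 1)), hl⟩ : Fin c) 1, 0) from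
          X_eq ⟨_, hl⟩]
        simp only [lin, LinearMap.coe_mk, AddHom.coe_mk, coefY, Pi.zero_apply, dite_eq_ite, ite_self, zero_add]
        rw [Finset.sum_eq_single ⟨2 * (c - (j + 1)), hl⟩]
        · simp only [Pi.single_eq_same, one_mul]
          rw [show 2 * (c - (j + 1)) / 2 = c - (j + 1) by omega]
          split_ifs <;> first | rfl | omega
        · intro l _ hne; simp [Pi.single_eq_of_ne hne]
        · simp
      rw [hdecomp, ← Finset.add_sum_erase _ _ (Finset.mem_univ (⟨j, hj⟩ : Fin c))] at hX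
      have hrest : ∑ r ∈ Finset.univ.erase (⟨j, hj⟩ : Fin c),
          (if (r : ℕ) ≤ j then a ((r : ℕ) + 1 + (c - (j + 1))) else 0) • Pi.single r (1 : k) ∈ M := by
        refine Submodule.sum_mem _ fun r hr => ?_
        have hne : (r : ℕ) ≠ j := fun h => Finset.ne_of_mem_erase hr (Fin.ext h)
        split_ifs with h
        · exact Submodule.smul_mem _ _ (ih r (by omega) r.2 (by omega))
        · rw [zero_smul]; exact zero_mem _
      rw [Submodule.add_mem_iff_left _ hrest, if_pos le_rfl, show j + 1 + (c - (j + 1)) = c by omega,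
        Submodule.smul_mem_iff _ ha] at hX
      exact hX

theorem NV_image {a : ℕ → k} (ha : a c ≠ 0) {i : ℕ} (hi : i ≤ 2 * c) :
    NV c k a '' (Nfil c k i : Set (GcMod c k)) = (Nfil c k (i / 2) : Set (GcMod c k)) := by
  ext w
  constructor
  · rintro ⟨v, hv, rfl⟩
    rw [SetLike.mem_coe, mem_Nfil] at hv ⊢
    refine ⟨fun l _ => rfl, fun j hj => ?_⟩
    rw [NV_eq]
    show (frobeniusEquiv k 2).symm _ = 0
    rw [map_eq_zero_iff _ (frobeniusEquiv k 2).symm.injective]
    simp only [lin, LinearMap.coe_mk, AddHom.coe_mk, coefY]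
    rw [Finset.sum_eq_zero fun l _ => ?_, add_zero]
    · split_ifs with h
      · exact hv.2 _ (by simp; omega)
      · rfl
    · split_ifs with h
      · rw [hv.1 l (by omega), zero_mul]
      · rfl
  · intro hw
    rw [SetLike.mem_coe, mem_Nfil] at hw
    have hw1 : w.1 = 0 := funext fun l => hw.1 l (by omega)
    have hmem : (fun j => w.2 j ^ 2) ∈ (Nfil c k i).map (lin c a) := by
      rw [show (fun j => w.2 j ^ 2) = ∑ j : Fin c, w.2 j ^ 2 • Pi.single j (1 : k) by
        funext q; simp [Pi.single_apply]]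
      refine Submodule.sum_mem _ fun j _ => ?_
      by_cases h : i / 2 ≤ (j : ℕ)
      · rw [hw.2 j h, zero_pow two_ne_zero, zero_smul]; exact zero_mem _
      · exact Submodule.smul_mem _ _ (single_mem_image ha hi j j.2 (by omega))
    obtain ⟨v, hv, hvw⟩ := hmem
    refine ⟨v, hv, ?_⟩
    rw [NV_eq, hvw]
    exact Prod.ext hw1.symm (funext fun j => frobeniusEquiv_symm_pow k 2 (w.2 j) |> fun h => by
      simpa [map_pow] using h)

theorem NF_preimage {a : ℕ → k} (ha : a c ≠ 0) {i : ℕ} (hi : i ≤ 2 * c) :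
    NF c k a ⁻¹' (Nfil c k i : Set (GcMod c k)) = (Nfil c k (c + (i + 1) / 2) : Set (GcMod c k)) := by
  ext v
  simp only [Set.mem_preimage, SetLike.mem_coe, mem_Nfil]
  constructor
  · rintro ⟨h1, h2⟩
    refine ⟨?_, fun l hl => by omega⟩
    suffices h : ∀ n, ∀ hn : n < c, n + 1 ≤ c - (i + 1) / 2 → v.1 ⟨n, hn⟩ = 0 from
      fun l hl => h l l.2 (by omega)
    intro n
    induction n using Nat.strong_induction_on with
    | _ n ih =>
      intro hn hnM
      by_cases hs : 2 * (n + 1) ≤ c
      · have := h1 ⟨2 * (n + 1) - 1, by omega⟩ (by simp; omega)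
        simp only [NF, coefX] at this
        rw [if_pos (by omega), dif_pos (by omega), sq_eq_zero_iff] at this
        convert this using 2
        simp; omega
      · have := h2 ⟨2 * (c - (n + 1)), by omega⟩ (by simp; omega)
        simp only [NF] at this
        rw [if_pos (by simp), Finset.sum_eq_single ⟨n, hn⟩] at this
        · rw [if_pos (by simp; omega)] at this
          simp only [show n + 1 + 2 * (c - (n + 1)) / 2 = c by omega, mul_eq_zero, sq_eq_zero_iff] at this
          exact this.resolve_right ha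
        · intro l _ hne
          split_ifs with h
          · have hlt : (l : ℕ) < n := by
              have : (l : ℕ) ≠ n := fun h' => hne (Fin.ext h')
              simp at h; omega
            rw [show l = ⟨l, l.2⟩ from rfl, ih l hlt l.2 (by omega)]; simp
          · rfl
        · simp
  · rintro ⟨h1, -⟩
    refine ⟨fun l hl => ?_, fun l hl => ?_⟩
    · simp only [NF, coefX]
      split_ifs with h h' <;> try rfl
      · rw [h1 _ (by simp; omega)]; simp
      · simp
    · simp only [NF]
      split_ifs with h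
      · refine Finset.sum_eq_zero fun j _ => ?_
        split_ifs with h'
        · rw [h1 j (by omega)]; simp
        · rfl
      · rfl

end Groth.Agent.EONil
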